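import Mathlib.CategoryTheory.Triangulated.Subcategory
import Mathlib.CategoryTheory.Triangulated.Triangulated
import Mathlib.CategoryTheory.Localization.CalculusOfFractions
import Mathlib.CategoryTheory.Linear.LinearFunctor
import Mathlib.CategoryTheory.ObjectProperty.Retract
import Mathlib.RingTheory.Ideal.Maximal

/-!
An object of a thick subcategory is detected in the Verdier quotient, locally on `A`.
-/

set_option autoImplicit false
universe w v u v' u'

namespace VerdierZeroLib

open ZeroObject CategoryTheory CategoryTheory.Limits CategoryTheory.Pretriangulated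

variable {A : Type w} [CommRing A]
    {T : Type u} [Category.{v} T] [Preadditive T] [HasZeroObject T] [HasShift T ℤ]
    [∀ n : ℤ, (shiftFunctor T n).Additive] [Pretriangulated T] [IsTriangulated T]
    (U : ObjectProperty T) [U.IsTriangulated] [U.IsClosedUnderIsomorphisms] [U.IsStableUnderRetracts]
    {E : Type u'} [Category.{v'} E] [Preadditive E] [Linear A E]
    (Q : T ⥤ E) [Q.Additive] [Q.IsLocalization U.trW]

theorem main (X : T) :
    U X ↔ ∀ m : Ideal A, m.IsMaximal → ∃ s : A, s ∉ m ∧ s • 𝟙 (Q.obj X) = 0 := by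
  constructor
  · intro hX m hm
    refine ⟨1, (Ideal.ne_top_iff_one m).mp hm.ne_top, ?_⟩
    have hW : U.trW (0 : X ⟶ 0) :=
      ObjectProperty.trW.mk' U (contractible_distinguished X) hX
    rw [one_smul, ← cancel_mono (Localization.isoOfHom Q U.trW (0 : X ⟶ 0) hW).hom]
    simp [Localization.isoOfHom_hom]
  · intro h
    have h1 : (1 : A) • 𝟙 (Q.obj X) = 0 := by
      let I : Ideal A := LinearMap.ker (LinearMap.toSpanSingleton A (Q.obj X ⟶ Q.obj X) (𝟙 _))
      have hI : I = ⊤ := by
        by_contra hne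
        obtain ⟨m, hm, hle⟩ := Ideal.exists_le_maximal I hne
        obtain ⟨s, hs, hs0⟩ := h m hm
        exact hs (hle (by simpa [I] using hs0))
      have : (1 : A) ∈ I := hI ▸ trivial
      simpa [I] using this
    rw [one_smul] at h1
    obtain ⟨Z, s, hs, he⟩ := (MorphismProperty.map_eq_iff_postcomp Q U.trW (𝟙 X) 0).mp
      (by rw [Q.map_id, Q.map_zero, h1])
    rw [Category.id_comp, zero_comp] at he
    subst he
    obtain ⟨C, g, k, hT, hC⟩ := hs
    obtain ⟨e, he⟩ := Triangle.coyoneda_exact₁ _ hT (𝟙 (X⟦(1 : ℤ)⟧))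
      (show 𝟙 (X⟦(1 : ℤ)⟧) ≫ (0 : X ⟶ Z)⟦(1 : ℤ)⟧' = 0 by simp)
    have hX1 : U (X⟦(1 : ℤ)⟧) :=
      ObjectProperty.IsStableUnderRetracts.of_retract
        ({ i := e, r := k, retract := he.symm } : Retract (X⟦(1 : ℤ)⟧) C) hC
    exact U.prop_of_iso ((shiftFunctorCompIsoId T (1 : ℤ) (-1) (by simp)).app X)
      (U.le_shift (-1 : ℤ) _ hX1)

end VerdierZeroLib
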